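import Mathlib
import Groth.Prelude.Def_EGA4b

/-!
# The fibre local ring of a quotient algebra (helper14)
-/

set_option autoImplicit false
set_option linter.style.haveILetI false
universe u

open IsLocalRing TensorProduct

namespace Groth.Agent.Lib.Helper14.RegFibre

variable (R S : Type u) [CommRing R] [CommRing S] [Algebra R S] (I : Ideal S)
  (z : Ideal (S ⧸ I)) [hz : z.IsPrime] (q : Ideal S) [hqp : q.IsPrime]

theorem nonempty_fibLocRing_quot_equiv (hq : z.comap (Ideal.Quotient.mk I) = q) :
    Nonempty (EGA4.FibLocRing R (S ⧸ I) z ≃+*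
      EGA4.FibLocRing R S q ⧸ I.map (algebraMap S (EGA4.FibLocRing R S q))) := by
  set Sq := Localization.AtPrime q with hSq
  set I' : Ideal Sq := I.map (algebraMap S Sq) with hI'
  set p : Ideal R := q.comap (algebraMap R S) with hp
  set P' : Ideal Sq := p.map (algebraMap R Sq) with hP'
  have hsurj : Function.Surjective (Ideal.Quotient.mk I) := Ideal.Quotient.mk_surjective
  have hsub : Algebra.algebraMapSubmonoid (S ⧸ I) q.primeCompl = z.primeCompl := by
    ext x
    constructor
    · rintro ⟨y, hy, rfl⟩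
      intro hmem
      apply hy
      have : y ∈ z.comap (Ideal.Quotient.mk I) := hmem
      rwa [hq] at this
    · intro hx
      obtain ⟨y, rfl⟩ := hsurj x
      refine ⟨y, ?_, rfl⟩
      intro hy
      apply hx
      have : y ∈ z.comap (Ideal.Quotient.mk I) := by rw [hq]; exact hy
      exact this
  haveI : IsLocalization.AtPrime (Sq ⧸ I') z := by
    rw [IsLocalization.AtPrime, ← hsub]
    infer_instance
  haveI : IsScalarTower R (S ⧸ I) (Sq ⧸ I') := IsScalarTower.of_algebraMap_eq fun r => rfl
  let e1 : Localization.AtPrime z ≃ₐ[S ⧸ I] (Sq ⧸ I') :=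
    IsLocalization.algEquiv z.primeCompl _ _
  have hpp : z.comap (algebraMap R (S ⧸ I)) = p := by
    rw [hp, ← hq, Ideal.comap_comap]
    rfl
  have he1 : ∀ r : R, e1 (algebraMap R (Localization.AtPrime z) r) = algebraMap R (Sq ⧸ I') r := by
    intro r
    rw [IsScalarTower.algebraMap_apply R (S ⧸ I) (Localization.AtPrime z), e1.commutes,
      ← IsScalarTower.algebraMap_apply]
  -- step 2
  have hJ : (P'.map (Ideal.Quotient.mk I')) =
      ((z.comap (algebraMap R (S ⧸ I))).map (algebraMap R (Localization.AtPrime z))).map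
        (e1.toRingEquiv : Localization.AtPrime z →+* (Sq ⧸ I')) := by
    rw [hpp, Ideal.map_map, Ideal.map_map]
    congr 1
    ext r
    exact (he1 r).symm
  let e2 : EGA4.FibLocRing R (S ⧸ I) z ≃+* (Sq ⧸ I') ⧸ P'.map (Ideal.Quotient.mk I') :=
    Ideal.quotientEquiv _ _ e1.toRingEquiv hJ
  let e3 : (Sq ⧸ I') ⧸ P'.map (Ideal.Quotient.mk I') ≃+* (Sq ⧸ P') ⧸ I'.map (Ideal.Quotient.mk P') :=
    DoubleQuot.quotQuotEquivComm I' P'
  have hK : I'.map (Ideal.Quotient.mk P') = I.map (algebraMap S (EGA4.FibLocRing R S q)) := by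
    rw [hI', Ideal.map_map]
    rfl
  exact ⟨e2.trans (e3.trans (Ideal.quotEquivOfEq hK))⟩

end Groth.Agent.Lib.Helper14.RegFibre
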