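import Mathlib
import Groth.Prelude.Def_CAlg
import Groth.Prelude.Def_EGA4b
import Groth.Agent.Lib.Helper4.CM
import Groth.Agent.Lib.Helper22.CMGlue

/-!
# Regular sequences in fibre local rings: ring-level tools (helper14)
-/

set_option autoImplicit false
set_option linter.style.haveILetI false
universe u

open IsLocalRing TensorProduct RingTheory.Sequence

namespace Groth.Agent.Lib.Helper14.RegFibre

section bridge

variable (R S : Type u) [CommRing R] [CommRing S] [Algebra R S] (p : Ideal R) [p.IsPrime]

theorem comap_comap_includeRight (𝔮 : Ideal (p.Fiber S)) [𝔮.IsPrime] :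
    (𝔮.comap (Algebra.TensorProduct.includeRight : S →ₐ[R] p.Fiber S)).comap
      (algebraMap R S) = p := by
  have h1 : p = 𝔮.under R := Ideal.LiesOver.over
  have h2 : ∀ x, x ∈ p ↔ algebraMap R (p.Fiber S) x ∈ 𝔮 := fun x =>
    (SetLike.ext_iff.mp h1 x).trans Ideal.mem_comap
  ext x
  rw [Ideal.mem_comap, Ideal.mem_comap, h2, AlgHom.commutes]

theorem nonempty_localization_fiber_equiv (𝔮 : Ideal (p.Fiber S)) [𝔮.IsPrime] :
    Nonempty (Localization.AtPrime 𝔮 ≃+* EGA4.FibLocRing R S
      (𝔮.comap (Algebra.TensorProduct.includeRight : S →ₐ[R] p.Fiber S))) := by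
  have h := comap_comap_includeRight R S p 𝔮
  haveI : (𝔮.comap (Algebra.TensorProduct.includeRight : S →ₐ[R] p.Fiber S)).LiesOver p :=
    ⟨h.symm⟩
  letI := Localization.AtPrime.algebraOfLiesOver p
    (𝔮.comap (Algebra.TensorProduct.includeRight : S →ₐ[R] p.Fiber S))
  have e := Ideal.Fiber.localizationAlgEquivQuotient p 𝔮
  exact ⟨e.toRingEquiv.trans (Ideal.quotEquivOfEq (by rw [h]))⟩

theorem fibLocRing_congr (q q' : Ideal S) [q.IsPrime] [q'.IsPrime] (h : q = q') :
    Nonempty (EGA4.FibLocRing R S q ≃+* EGA4.FibLocRing R S q') := by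
  subst h
  exact ⟨RingEquiv.refl _⟩

end bridge

section criterion

/-- in a Cohen–Macaulay local ring, a sequence in the maximal ideal is regular iff it cuts the
dimension down by its length. -/
theorem isRegular_iff_dim (B : Type u) [CommRing B] [hB : LocCoh.IsCohenMacaulayLocalRing B]
    (xs : List B) (hxs : ∀ x ∈ xs, x ∈ maximalIdeal B) :
    IsRegular B xs ↔
      ringKrullDim (B ⧸ Ideal.ofList xs) + ((xs.length : ℕ) : WithBot ℕ∞) ≤ ringKrullDim B := by
  have hCM : LocCoh.IsCohenMacaulayModule B B := hB.supportDim_eq_depth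
  have hsm : (Ideal.ofList xs • (⊤ : Submodule B B)) = Ideal.ofList xs := by
    rw [smul_eq_mul, Ideal.mul_top]
  let e : (B ⧸ Ideal.ofList xs • (⊤ : Submodule B B)) ≃ₗ[B] (B ⧸ Ideal.ofList xs) :=
    Submodule.quotEquivOfEq _ _ hsm
  have hdimq : Module.supportDim B (B ⧸ Ideal.ofList xs • (⊤ : Submodule B B)) =
      ringKrullDim (B ⧸ Ideal.ofList xs) := by
    rw [Module.supportDim_eq_of_equiv e, Module.supportDim_quotient_eq_ringKrullDim]
  constructor
  · intro hreg
    have h := Module.supportDim_add_length_eq_supportDim_of_isRegular (M := B) xs hreg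
    rw [hdimq, Module.supportDim_self_eq_ringKrullDim] at h
    exact h.le
  · intro hle
    have h3 := Groth.Agent.Lib.Helper4.supportDim_le_supportDim_quot_ofList_add_length
      (R := B) (M := B) xs hxs
    rw [hdimq, Module.supportDim_self_eq_ringKrullDim] at h3
    have hdim : Module.supportDim B (B ⧸ Ideal.ofList xs • (⊤ : Submodule B B)) +
        ((xs.length : ℕ) : WithBot ℕ∞) = Module.supportDim B B := by
      rw [hdimq, Module.supportDim_self_eq_ringKrullDim]
      exact le_antisymm hle h3
    have hreg := Groth.Agent.Lib.Helper4.cm_isWeaklyRegular_of_supportDim hCM xs hxs hdim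
    exact IsRegular.of_isWeaklyRegular_of_mem_maximalIdeal B hxs hreg

end criterion

end Groth.Agent.Lib.Helper14.RegFibre
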