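import Mathlib
import Groth.Agent.Lib.Helper14.RegFibre.Ring
import Groth.Agent.Lib.Helper14.RegFibre.Quot
import Groth.Agent.Lib.Helper14.PiDecomp.FiberIso
import Groth.Agent.Lib.Helper12.SchemeDimIneq2
import Groth.Agent.Lib.Helper12.ClosedSub
import Groth.Agent.Lib.Helper12.Chevalley

/-!
# Fibre dimension of `Spec S ⟶ Spec R` at a point in terms of the fibre local ring (helper14)
-/

set_option autoImplicit false
set_option linter.style.haveILetI false
universe u

open AlgebraicGeometry CategoryTheory TensorProduct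

namespace Groth.Agent.Lib.Helper14.RegFibre

open Groth.Agent.Lib.Helper14.PiDecomp Groth.Agent.Lib.Helper12 Groth.Agent.Lib.Helper12.SchemeDimIneq

variable (R S : Type u) [CommRing R] [CommRing S] [Algebra R S]

theorem lft_specMap [Algebra.FiniteType R S] : LocallyOfFiniteType (specMap R S) :=
  (HasRingHomProperty.Spec_iff (P := @LocallyOfFiniteType)).mpr
    (RingHom.finiteType_algebraMap.mpr inferInstance)

/-- the local ring of the fibre of `Spec S ⟶ Spec R` at a point is the fibre local ring. -/
theorem nonempty_fibre_stalk_equiv (x : PrimeSpectrum S) :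
    Nonempty (((specMap R S).fiber ((specMap R S) x)).presheaf.stalk ((specMap R S).asFiber x) ≃+*
      EGA4.FibLocRing R S x.asIdeal) := by
  obtain ⟨Q, hQ⟩ := exists_fibPt_eq R S x
  have key : ∀ x' : PrimeSpectrum S, fibPt R S ((specMap R S) x) Q = x' →
      Nonempty (((specMap R S).fiber ((specMap R S) x')).presheaf.stalk
        ((specMap R S).asFiber x') ≃+* Localization.AtPrime Q.asIdeal) := by
    rintro _ rfl
    exact stalk_fibPt R S ((specMap R S) x) Q
  obtain ⟨e1⟩ := key x hQ
  obtain ⟨e2⟩ := nonempty_localization_fiber_equiv R S ((specMap R S) x).asIdeal Q.asIdeal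
  have hQ' : Q.asIdeal.comap (Algebra.TensorProduct.includeRight :
      S →ₐ[R] ((specMap R S) x).asIdeal.Fiber S) = x.asIdeal := by
    have := congrArg PrimeSpectrum.asIdeal hQ
    exact this
  obtain ⟨e3⟩ := fibLocRing_congr R S _ x.asIdeal hQ'
  exact ⟨e1.trans (e2.trans e3)⟩

theorem fibreDimAt_specMap_eq [Algebra.FiniteType R S] (x : PrimeSpectrum S) :
    haveI := lft_specMap R S
    FlatMor.fibreDimAt (specMap R S) x =
      ((trn (specMap R S) x : ℕ∞) : WithBot ℕ∞) + ringKrullDim (EGA4.FibLocRing R S x.asIdeal) := by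
  haveI := lft_specMap R S
  obtain ⟨e⟩ := nonempty_fibre_stalk_equiv R S x
  rw [fibreDimAt_eq_trn_add, ringKrullDim_eq_of_ringEquiv e]

end Groth.Agent.Lib.Helper14.RegFibre
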