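import Mathlib
import Groth.Agent.Lib.Helper14.RegFibre.Sch
import Groth.Agent.Lib.Helper12.SecComp
import Groth.Agent.Lib.Helper12.DimFT2

/-!
# Openness (in `V(f)`) of the locus where `f` is a regular sequence in the fibre local ring,
for finite type algebras with Cohen–Macaulay equidimensional fibres (helper14)
-/

set_option autoImplicit false
set_option linter.style.haveILetI false
universe u

open AlgebraicGeometry CategoryTheory TensorProduct IsLocalRing

namespace Groth.Agent.Lib.Helper14.RegFibre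

open Groth.Agent.Lib.Helper14.PiDecomp Groth.Agent.Lib.Helper12
  Groth.Agent.Lib.Helper12.SchemeDimIneq

theorem ofList_map' {A A' : Type*} [CommSemiring A] [CommSemiring A'] (e : A →+* A') (l : List A) :
    Ideal.ofList (l.map e) = (Ideal.ofList l).map e := by
  rw [Ideal.ofList, Ideal.ofList, Ideal.map_span]
  congr 1
  ext y
  simp

section

variable (R S : Type u) [CommRing R] [CommRing S] [Algebra R S]

/-- the image of an element of `q` in the fibre local ring lies in the maximal ideal. -/
theorem algebraMap_mem_maximalIdeal_fibLocRing (q : Ideal S) [q.IsPrime]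
    [IsLocalRing (EGA4.FibLocRing R S q)] (s : S) (hs : s ∈ q) :
    algebraMap S (EGA4.FibLocRing R S q) s ∈ maximalIdeal (EGA4.FibLocRing R S q) := by
  rw [mem_maximalIdeal, mem_nonunits_iff]
  intro hu
  obtain ⟨b, hb⟩ := hu.exists_right_inv
  obtain ⟨b', rfl⟩ := Ideal.Quotient.mk_surjective b
  have h1 : algebraMap S (EGA4.FibLocRing R S q) s =
      Ideal.Quotient.mk _ (algebraMap S (Localization.AtPrime q) s) := rfl
  rw [h1, ← map_mul, ← map_one (Ideal.Quotient.mk _), Ideal.Quotient.eq] at hb
  have hP : (q.comap (algebraMap R S)).map (algebraMap R (Localization.AtPrime q)) ≤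
      maximalIdeal (Localization.AtPrime q) := by
    rw [Ideal.map_le_iff_le_comap]
    intro r hr
    rw [Ideal.mem_comap, IsScalarTower.algebraMap_apply R S (Localization.AtPrime q),
      IsLocalization.AtPrime.to_map_mem_maximal_iff (Localization.AtPrime q) q]
    exact hr
  have h2 := hP hb
  have h3 : algebraMap S (Localization.AtPrime q) s * b' ∈ maximalIdeal (Localization.AtPrime q) :=
    Ideal.mul_mem_right _ _
      ((IsLocalization.AtPrime.to_map_mem_maximal_iff (Localization.AtPrime q) q s).mpr hs)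
  have h4 : (1 : Localization.AtPrime q) ∈ maximalIdeal (Localization.AtPrime q) := by
    have := Ideal.sub_mem _ h3 h2
    simpa using this
  exact (maximalIdeal.isMaximal (Localization.AtPrime q)).ne_top
    ((Ideal.eq_top_iff_one _).mpr h4)

/-- the fibre local rings are Cohen–Macaulay when the fibre rings are. -/
theorem isCM_fibLocRing
    (hCM : ∀ p : PrimeSpectrum R, LocCoh.IsCohenMacaulayRing (p.asIdeal.Fiber S))
    (x : PrimeSpectrum S) : LocCoh.IsCohenMacaulayLocalRing (EGA4.FibLocRing R S x.asIdeal) := by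
  obtain ⟨Q, hQ⟩ := exists_fibPt_eq R S x
  obtain ⟨e2⟩ := nonempty_localization_fiber_equiv R S ((specMap R S) x).asIdeal Q.asIdeal
  have hQ' : Q.asIdeal.comap (Algebra.TensorProduct.includeRight :
      S →ₐ[R] ((specMap R S) x).asIdeal.Fiber S) = x.asIdeal := by
    have := congrArg PrimeSpectrum.asIdeal hQ
    exact this
  obtain ⟨e3⟩ := fibLocRing_congr R S _ x.asIdeal hQ'
  haveI := (hCM ((specMap R S) x)).isCohenMacaulayLocalRing_localization Q.asIdeal
  exact Groth.Agent.Lib.Helper22.CMG.isCMLocalRing_of_ringEquiv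
    (R := Localization.AtPrime Q.asIdeal) (e2.trans e3)

/-- equidimensional fibres of dimension `d`: the fibre dimension is `d` at every point. -/
theorem fibreDimAt_eq_of_equidim [Algebra.FiniteType R S] (d : ℕ)
    (heq : ∀ p : PrimeSpectrum R, ∀ P ∈ minimalPrimes (p.asIdeal.Fiber S),
      ringKrullDim (p.asIdeal.Fiber S ⧸ P) = (d : WithBot ℕ∞))
    (x : PrimeSpectrum S) : FlatMor.fibreDimAt (specMap R S) x = ((d : ℕ) : WithBot ℕ∞) := by
  obtain ⟨Q, hQ⟩ := exists_fibPt_eq R S x
  have h1 := fibreDimAt_fibPt R S ((specMap R S) x) Q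
  rw [hQ] at h1
  rw [h1]
  haveI : Algebra.FiniteType ((specMap R S) x).asIdeal.ResidueField
      (((specMap R S) x).asIdeal.Fiber S) := inferInstance
  rw [DimFT2.localDim_primeSpectrum ((specMap R S) x).asIdeal.ResidueField,
    DimFT2.height_add_coheight_of_equidim ((specMap R S) x).asIdeal.ResidueField _ d
      (fun P hP _ => heq _ P hP) Q]
  rfl

/-- arithmetic: cancelling a finite summand. -/
theorem arith_aux (a : ℕ∞) (ha : a ≠ ⊤) (b c : WithBot ℕ∞) (i d m : ℕ) (hc0 : c ≠ ⊥)
    (hab : ((a : ℕ∞) : WithBot ℕ∞) + b = ((d : ℕ) : WithBot ℕ∞))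
    (hac : ((a : ℕ∞) : WithBot ℕ∞) + c = ((m : ℕ) : WithBot ℕ∞)) :
    (((m : ℕ) : WithBot ℕ∞) + ((i : ℕ) : WithBot ℕ∞) ≤ ((d : ℕ) : WithBot ℕ∞)) ↔
      (c + ((i : ℕ) : WithBot ℕ∞) ≤ b) := by
  obtain ⟨a₀, rfl⟩ := ENat.ne_top_iff_exists.mp ha
  induction b using WithBot.recBotCoe with
  | bot => simp at hab
  | coe b =>
    induction c using WithBot.recBotCoe with
    | bot => exact absurd rfl hc0
    | coe c =>
      induction b using ENat.recTopCoe with
      | top =>
        exfalso
        have : (((a₀ : ℕ∞) + (⊤ : ℕ∞) : ℕ∞) : WithBot ℕ∞) = ((d : ℕ∞) : WithBot ℕ∞) := by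
          exact_mod_cast hab
        rw [add_top] at this
        exact ENat.top_ne_coe d (WithBot.coe_injective this)
      | coe b =>
        induction c using ENat.recTopCoe with
        | top =>
          exfalso
          have : (((a₀ : ℕ∞) + (⊤ : ℕ∞) : ℕ∞) : WithBot ℕ∞) = ((m : ℕ∞) : WithBot ℕ∞) := by
            exact_mod_cast hac
          rw [add_top] at this
          exact ENat.top_ne_coe m (WithBot.coe_injective this)
        | coe c =>
          have h1 : a₀ + b = d := by exact_mod_cast hab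
          have h2 : a₀ + c = m := by exact_mod_cast hac
          constructor
          · intro h
            have h3 : m + i ≤ d := by exact_mod_cast h
            have h4 : c + i ≤ b := by omega
            exact_mod_cast h4
          · intro h
            have h3 : c + i ≤ b := by exact_mod_cast h
            have h4 : m + i ≤ d := by omega
            exact_mod_cast h4

theorem main [Algebra.FiniteType R S] (d : ℕ)
    (hCM : ∀ p : PrimeSpectrum R, LocCoh.IsCohenMacaulayRing (p.asIdeal.Fiber S))
    (heq : ∀ p : PrimeSpectrum R, ∀ P ∈ minimalPrimes (p.asIdeal.Fiber S),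
      ringKrullDim (p.asIdeal.Fiber S ⧸ P) = (d : WithBot ℕ∞))
    (f : List S) :
    ∃ U : Set (PrimeSpectrum S), IsOpen U ∧ ∀ q : PrimeSpectrum S, Ideal.ofList f ≤ q.asIdeal →
      (q ∈ U ↔ RingTheory.Sequence.IsRegular (EGA4.FibLocRing R S q.asIdeal)
        (f.map (algebraMap S (EGA4.FibLocRing R S q.asIdeal)))) := by
  set I := Ideal.ofList f with hI
  haveI : Algebra.FiniteType R (S ⧸ I) :=
    Algebra.FiniteType.of_surjective (Ideal.Quotient.mkₐ R I) Ideal.Quotient.mk_surjective
  haveI := lft_specMap R S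
  haveI := lft_specMap R (S ⧸ I)
  have hcomp : specMap R (S ⧸ I) = specMap S (S ⧸ I) ≫ specMap R S := by
    rw [← Spec.map_comp, ← CommRingCat.ofHom_comp, ← IsScalarTower.algebraMap_eq]
  haveI : IsClosedImmersion (specMap S (S ⧸ I)) :=
    IsClosedImmersion.spec_of_surjective _ Ideal.Quotient.mk_surjective
  -- the open set upstairs
  set U' : Set (PrimeSpectrum (S ⧸ I)) :=
    {z | FlatMor.fibreDimAt (specMap R (S ⧸ I)) z + ((f.length : ℕ) : WithBot ℕ∞) ≤
      ((d : ℕ) : WithBot ℕ∞)} with hU'
  have hU'open : IsOpen U' := by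
    by_cases hid : f.length ≤ d
    · have : U' = {z | FlatMor.fibreDimAt (specMap R (S ⧸ I)) z ≤ ((d - f.length : ℕ) : ℕ)} := by
        ext z
        obtain ⟨m, hm⟩ := SecComp.exists_nat_fibreDimAt (specMap R (S ⧸ I)) z
        change (FlatMor.fibreDimAt (specMap R (S ⧸ I)) z + ((f.length : ℕ) : WithBot ℕ∞) ≤
          ((d : ℕ) : WithBot ℕ∞)) ↔
          (FlatMor.fibreDimAt (specMap R (S ⧸ I)) z ≤ ((d - f.length : ℕ) : ℕ))
        rw [hm]
        constructor
        · intro h
          have h1 : m + f.length ≤ d := by exact_mod_cast h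
          have h2 : m ≤ d - f.length := by omega
          exact_mod_cast h2
        · intro h
          have h1 : m ≤ d - f.length := by exact_mod_cast h
          have h2 : m + f.length ≤ d := by omega
          exact_mod_cast h2
      rw [this]
      exact Chevalley.isOpen_setOf_fibreDimAt_le (specMap R (S ⧸ I)) (d - f.length)
    · have : U' = ∅ := by
        ext z
        obtain ⟨m, hm⟩ := SecComp.exists_nat_fibreDimAt (specMap R (S ⧸ I)) z
        simp only [Set.mem_empty_iff_false, iff_false]
        change ¬ (FlatMor.fibreDimAt (specMap R (S ⧸ I)) z + ((f.length : ℕ) : WithBot ℕ∞) ≤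
          ((d : ℕ) : WithBot ℕ∞))
        rw [hm]
        intro h
        have h1 : m + f.length ≤ d := by exact_mod_cast h
        omega
      rw [this]
      exact isOpen_empty
  set ιf : PrimeSpectrum (S ⧸ I) → PrimeSpectrum S := fun z => (specMap S (S ⧸ I)) z with hιf
  have hcl : Topology.IsClosedEmbedding ιf :=
    (specMap S (S ⧸ I)).isClosedEmbedding
  refine ⟨(ιf '' U'ᶜ)ᶜ, ?_, ?_⟩
  · exact (hcl.isClosedMap _ (isClosed_compl_iff.mpr hU'open)).isOpen_compl
  intro q hIq
  -- the point upstairs
  have hker : RingHom.ker (Ideal.Quotient.mk I) ≤ q.asIdeal := by rwa [Ideal.mk_ker]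
  haveI hzp : (q.asIdeal.map (Ideal.Quotient.mk I)).IsPrime :=
    Ideal.map_isPrime_of_surjective Ideal.Quotient.mk_surjective hker
  let z : PrimeSpectrum (S ⧸ I) := ⟨q.asIdeal.map (Ideal.Quotient.mk I), hzp⟩
  have hzq' : z.asIdeal.comap (Ideal.Quotient.mk I) = q.asIdeal := by
    change (q.asIdeal.map (Ideal.Quotient.mk I)).comap (Ideal.Quotient.mk I) = q.asIdeal
    rw [Ideal.comap_map_of_surjective _ Ideal.Quotient.mk_surjective, ← RingHom.ker_eq_comap_bot,
      sup_eq_left.mpr hker]
  have hzq : ιf z = q := PrimeSpectrum.ext hzq'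
  have hmemU : q ∈ (ιf '' U'ᶜ)ᶜ ↔ z ∈ U' := by
    rw [Set.mem_compl_iff]
    constructor
    · intro h
      by_contra hz
      exact h ⟨z, hz, hzq⟩
    · rintro hz ⟨z', hz', hz'q⟩
      have : z' = z := hcl.injective (hz'q.trans hzq.symm)
      rw [this] at hz'
      exact hz' hz
  rw [hmemU]
  -- the Cohen–Macaulay criterion
  haveI hBcm := isCM_fibLocRing R S hCM q
  have hxs : ∀ x ∈ f.map (algebraMap S (EGA4.FibLocRing R S q.asIdeal)),
      x ∈ maximalIdeal (EGA4.FibLocRing R S q.asIdeal) := by
    intro x hx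
    rw [List.mem_map] at hx
    obtain ⟨s, hs, rfl⟩ := hx
    exact algebraMap_mem_maximalIdeal_fibLocRing R S q.asIdeal s (hIq (Ideal.subset_span hs))
  rw [isRegular_iff_dim _ _ hxs, List.length_map, ofList_map']
  -- dimensions
  obtain ⟨e⟩ := nonempty_fibLocRing_quot_equiv R S I z.asIdeal q.asIdeal hzq'
  rw [← ringKrullDim_eq_of_ringEquiv e]
  obtain ⟨m, hm⟩ := SecComp.exists_nat_fibreDimAt (specMap R (S ⧸ I)) z
  have h1 := fibreDimAt_specMap_eq R (S ⧸ I) z
  have h2 := fibreDimAt_specMap_eq R S q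
  rw [fibreDimAt_eq_of_equidim R S d heq q] at h2
  have htrn : trn (specMap R (S ⧸ I)) z = trn (specMap R S) q := by
    rw [hcomp, ClosedSub.trn_comp_preimmersion]
    exact congrArg (trn (specMap R S)) hzq
  rw [htrn, hm] at h1
  show FlatMor.fibreDimAt (specMap R (S ⧸ I)) z + ((f.length : ℕ) : WithBot ℕ∞) ≤
      ((d : ℕ) : WithBot ℕ∞) ↔ _
  rw [hm]
  haveI : Nontrivial (EGA4.FibLocRing R (S ⧸ I) z.asIdeal) := by
    haveI := isCM_fibLocRing R S hCM q
    have hlocal : IsLocalRing (EGA4.FibLocRing R S q.asIdeal) := inferInstance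
    have hne : I.map (algebraMap S (EGA4.FibLocRing R S q.asIdeal)) ≠ ⊤ := by
      intro htop
      have hle : I.map (algebraMap S (EGA4.FibLocRing R S q.asIdeal)) ≤
          maximalIdeal (EGA4.FibLocRing R S q.asIdeal) := by
        rw [Ideal.map_le_iff_le_comap]
        intro s hs
        exact algebraMap_mem_maximalIdeal_fibLocRing R S q.asIdeal s (hIq hs)
      rw [htop] at hle
      exact (maximalIdeal.isMaximal _).ne_top (top_le_iff.mp hle)
    haveI : Nontrivial (EGA4.FibLocRing R S q.asIdeal ⧸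
        I.map (algebraMap S (EGA4.FibLocRing R S q.asIdeal))) :=
      Ideal.Quotient.nontrivial_iff.mpr hne
    exact e.toEquiv.nontrivial
  have hc0 : ringKrullDim (EGA4.FibLocRing R (S ⧸ I) z.asIdeal) ≠ ⊥ := by
    intro h
    have := ringKrullDim_nonneg_of_nontrivial (R := EGA4.FibLocRing R (S ⧸ I) z.asIdeal)
    rw [h] at this
    exact absurd this (by simp)
  exact arith_aux (trn (specMap R S) q) (trn_ne_top (specMap R S) q) _ _ f.length d m hc0
    h2.symm h1.symm

end

end Groth.Agent.Lib.Helper14.RegFibre
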